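import Cfsg.Agent.H857.Ree8.Word

/-!
# The elements `x, s, w₁, w₂, w₃` of `²F₄(8)`: words and relations
-/

set_option autoImplicit false
set_option maxRecDepth 20000

namespace Cfsg.Agent.H857.Ree8.Data

open Cfsg.Agent.H857.Ree8.Root Cfsg.Agent.H857.Ree8.Code Cfsg.Agent.H857.Ree8.Word
open Cfsg.Agent.H857.Ree8.Word.Tok

/-- the element `x` of order 13 -/
def xW : List Tok := [o 2 1, e 1 0 1, o 1 1, e 3 1 1, o 7 1, e 6 0 1, o 2 1, e 6 0 1, o 7 1, e 3 1 0, o 1 1, e 1 0 1]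
/-- the element `d` of order 3 -/
def dW : List Tok := [o 4 1, o 0 1]
/-- the centraliser of `d` in `NO` -/
def gEW (u t s : ℕ) : List Tok :=
  [e 1 0 u, o 1 t, e 2 (xS.sq t) (Nat.xor (gm u t) (gm u (sg u))), o 2 s,
    e 3 (Nat.xor (xS.sq t) u) (Nat.xor (gm t (xS.sq t)) (Nat.xor (gm (sg u) (xS.sq t)) (gm u (sg u)))),
    o 3 (Nat.xor t (sg u)), e 4 0 u]
/-- the element `s` of order 12 -/
def sW : List Tok := dW ++ gEW 1 1 1
/-- the involutions inverting `s` -/
def wW : ℕ → List Tok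
  | 0 => gEW 3 7 7 ++ [o 0 3, o 4 4, o 0 3]
  | 1 => gEW 5 3 3 ++ [o 0 5, o 4 6, o 0 5]
  | _ => gEW 7 5 5 ++ [o 0 7, o 4 2, o 0 7]
/-- element of order 13 of the first Suzuki group -/
def aW : List Tok := [e 4 0 1, e 0 0 3]
/-- element of order 13 of the second Suzuki group -/
def bW : List Tok := [e 6 0 1, e 2 0 3]
/-- elements of order 4 -/
def a1W : List Tok := [e 4 1 5]
/-- elements of order 4 -/
def b1W : List Tok := [e 6 1 5]
/-- conjugates `a b ^ 2` to `x` -/
def g1W : List Tok := [o 1 1, e 2 3 6, o 2 5, e 3 4 4, o 3 7, o 0 6, o 4 2, o 0 6, e 5 1 0, e 6 1 0, e 2 0 1, e 7 1 0]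
/-- conjugates `a b ^ 4` to `x` -/
def g2W : List Tok := [e 1 0 6, o 1 1, e 2 7 3, o 2 7, e 3 4 4, o 3 6, e 4 0 7, o 0 6, o 4 2, o 0 7, e 5 1 0, e 6 1 0,
  e 2 0 1, e 7 1 0]

/-- the check -/
def chk (v w : List Tok) : Bool := ok v && ok w && Nat.beq (ev v idM) (ev w idM)

theorem r_x13 : chk (pw xW 13) [] = true := by decide +kernel
theorem r_s12 : chk (pw sW 12) [] = true := by decide +kernel
theorem r_sx : chk (sW ++ xW) (pw xW 2 ++ sW) = true := by decide +kernel
theorem r_s4 : chk (pw sW 4) dW = true := by decide +kernel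
theorem r_s6 : chk (pw sW 6) [o 2 1] = true := by decide +kernel
theorem r_w2 : (List.range 3).all (fun i => chk (wW i ++ wW i) []) = true := by decide +kernel
theorem r_ws : (List.range 3).all (fun i => chk (wW i ++ sW ++ wW i) (pw sW 11)) = true := by decide +kernel
theorem r_xw : (List.range 3).all (fun i => chk (pw (xW ++ wW i) 3) []) = true := by decide +kernel
theorem r_a13 : chk (pw aW 13) [] = true := by decide +kernel
theorem r_b13 : chk (pw bW 13) [] = true := by decide +kernel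
theorem r_ab : chk (aW ++ bW) (bW ++ aW) = true := by decide +kernel
theorem r_a1a : chk (a1W ++ aW) (pw aW 5 ++ a1W) = true := by decide +kernel
theorem r_b1b : chk (b1W ++ bW) (pw bW 5 ++ b1W) = true := by decide +kernel
theorem r_a1b : chk (a1W ++ bW) (bW ++ a1W) = true := by decide +kernel
theorem r_b1a : chk (b1W ++ aW) (aW ++ b1W) = true := by decide +kernel
theorem r_a1 : chk (a1W ++ a1W) [e 4 0 1] = true := by decide +kernel
theorem r_b1 : chk (b1W ++ b1W) [e 6 0 1] = true := by decide +kernel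
theorem r_g1 : chk (g1W ++ aW ++ pw bW 2) (xW ++ g1W) = true := by decide +kernel
theorem r_g2 : chk (g2W ++ aW ++ pw bW 4) (xW ++ g2W) = true := by decide +kernel

theorem tr_x : trc (ev xW idM) = 0 := by decide +kernel
theorem tr_a : trc (ev aW idM) = 5 ∧ trc (ev (pw aW 2) idM) = 7 ∧ trc (ev (pw aW 4) idM) = 3 := by decide +kernel
theorem tr_b : trc (ev bW idM) = 5 ∧ trc (ev (pw bW 2) idM) = 7 ∧ trc (ev (pw bW 4) idM) = 3 := by decide +kernel
theorem tr_ab : trc (ev (aW ++ bW) idM) = 3 ∧ trc (ev (pw aW 2 ++ pw bW 2) idM) = 5 ∧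
    trc (ev (pw aW 4 ++ pw bW 4) idM) = 7 := by decide +kernel
theorem tr_w : trc (ev (wW 0 ++ pw sW 3 ++ xW) idM) = 7 ∧ trc (ev (wW 1 ++ pw sW 3 ++ xW) idM) = 3 ∧
    trc (ev (wW 2 ++ pw sW 3 ++ xW) idM) = 5 := by decide +kernel

end Cfsg.Agent.H857.Ree8.Data
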