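import Cfsg.Agent.H857.Ree8.Enum
import Cfsg.Agent.H857.Ree8.Defs
import Cfsg.Agent.H496.TwEight.Card
import Cfsg.Agent.H496.TwEight.HOFacts
import Cfsg.Agent.H496.TwEight.PLFacts
import Cfsg.Agent.H519.TwFE
import Cfsg.Agent.H47.CentThirteen
import Cfsg.Agent.H47.FixThirteen

/-!
# The elements of `²F₄(8)`: relations in the group, the centraliser of `x`
-/

set_option autoImplicit false
set_option linter.unusedSectionVars false
set_option maxRecDepth 20000

namespace Cfsg.Agent.H857.Ree8.Facts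

open Cfsg.Lie Cfsg.Agent.ChevalleyStructure.TwF4.TwistedFix
open Cfsg.Agent.H857.Ree8 Cfsg.Agent.H857.Ree8.Root Cfsg.Agent.H857.Ree8.Code Cfsg.Agent.H857.Ree8.Word
open Cfsg.Agent.H857.Ree8.Data Cfsg.Agent.H857.Ree8.Enum
open Cfsg.Agent.KFacts.TwF4 Subgroup

universe u

/-- the hypotheses -/
structure Ctx (K : Type u) [Field K] [Fintype K] [CharP K 2] (φ : K →+* K) (θ : K) : Prop where
  hK : Fintype.card K = 2 ^ (2 * 1 + 1)
  hφ : Rln φ (2 ^ 1)
  hθ : θ ^ 3 = θ + 1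
  hs : IsSimpleGroup (GG K)
  hna : ¬ IsMulCommutative (GG K)
  hcard : Nat.card (GG K) = 2 ^ 36 * 3 ^ 5 * 5 ^ 2 * 7 ^ 2 * 13 ^ 2 * 19 * 37 * 109

theorem n_x : (ok xW && ok [] && !(beqM (ev xW idM) (ev [] idM))) = true := by decide +kernel
theorem n_a : (ok aW && ok [] && !(beqM (ev aW idM) (ev [] idM))) = true := by decide +kernel
theorem n_b : (ok bW && ok [] && !(beqM (ev bW idM) (ev [] idM))) = true := by decide +kernel
theorem n_t1 : (ok [Tok.e 4 0 1] && ok [] && !(beqM (ev [Tok.e 4 0 1] idM) (ev [] idM))) = true := by decide +kernel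
theorem n_t2 : (ok [Tok.e 6 0 1] && ok [] && !(beqM (ev [Tok.e 6 0 1] idM) (ev [] idM))) = true := by decide +kernel
theorem r_t1 : chk ([Tok.e 4 0 1] ++ [Tok.e 4 0 1]) [] = true := by decide +kernel
theorem r_t2 : chk ([Tok.e 6 0 1] ++ [Tok.e 6 0 1]) [] = true := by decide +kernel
theorem r_t1a : chk ([Tok.e 4 0 1] ++ aW ++ [Tok.e 4 0 1] ++ aW) [] = true := by decide +kernel
theorem r_t2b : chk ([Tok.e 6 0 1] ++ bW ++ [Tok.e 6 0 1] ++ bW) [] = true := by decide +kernel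
theorem r_t1b : chk ([Tok.e 4 0 1] ++ bW) (bW ++ [Tok.e 4 0 1]) = true := by decide +kernel
theorem r_t2a : chk ([Tok.e 6 0 1] ++ aW) (aW ++ [Tok.e 6 0 1]) = true := by decide +kernel
theorem r_vx : chk ([Tok.o 2 1] ++ xW ++ [Tok.o 2 1] ++ xW) [] = true := by decide +kernel
theorem r_v2 : chk ([Tok.o 2 1] ++ [Tok.o 2 1]) [] = true := by decide +kernel
theorem r_d3 : chk (pw dW 3) [] = true := by decide +kernel
theorem n_d : (ok dW && ok [] && !(beqM (ev dW idM) (ev [] idM))) = true := by decide +kernel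

variable {K : Type u} [Field K] [Fintype K] [CharP K 2] {φ : K →+* K} {θ : K} (c : Ctx K φ θ)

/-- the coordinates -/
noncomputable def SS : Full φ (GG K) := Inst.full c.hK c.hφ

/-- the group element of a word -/
noncomputable def g (w : List Tok) : GG K := wg c.hφ θ w

theorem g_app (v w : List Tok) : g c (v ++ w) = g c v * g c w := wg_append c.hφ v w
theorem g_pw (w : List Tok) (n : ℕ) : g c (pw w n) = g c w ^ n := wg_pw c.hφ w n
theorem g_nil : g c [] = 1 := rfl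

theorem eqv {v w : List Tok} (h : chk v w = true) : g c v = g c w := by
  have := c.hs
  exact wg_eq c.hφ c.hna c.hθ h

theorem nev {v w : List Tok} (h : (ok v && ok w && !(beqM (ev v idM) (ev w idM))) = true) : g c v ≠ g c w :=
  wg_ne c.hφ c.hθ idM h

include c in
theorem card8 : Nat.card K = 8 := by rw [Nat.card_eq_fintype_card, c.hK]; norm_num

include c in
theorem hF : ∃ u : Kˣ, u ≠ 1 := Cfsg.Agent.H496.TwEight.Card.exists_unit_of_card (card8 c)

theorem tok_o (a t : ℕ) (w : List Tok) : g c (Tok.o a t :: w) = (SS c).o (a : ZMod 8) (gf θ t) * g c w :=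
  wg_cons c.hφ _ _
theorem tok_e (a p u : ℕ) (w : List Tok) : g c (Tok.e a p u :: w) = (SS c).e (a : ZMod 8) (gf θ p) (gf θ u) * g c w :=
  wg_cons c.hφ _ _

theorem x13 : g c xW ^ 13 = 1 := by rw [← g_pw, eqv c r_x13, g_nil]
theorem x1 : g c xW ≠ 1 := nev c n_x
theorem s12 : g c sW ^ 12 = 1 := by rw [← g_pw, eqv c r_s12, g_nil]
theorem sx : g c sW * g c xW * (g c sW)⁻¹ = g c xW ^ 2 := by
  have h := eqv c r_sx
  rw [g_app, g_app, g_pw] at h
  rw [h, mul_inv_cancel_right]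

theorem gv : g c [Tok.o 2 1] = (SS c).o 2 1 := by
  rw [tok_o, g_nil, mul_one, gf_one]; rfl

theorem s6 : g c sW ^ 6 = (SS c).o 2 1 := by
  rw [← g_pw, eqv c r_s6, gv]

theorem gd : g c dW = Cfsg.Agent.H519.TwFE.dd (SS c) := by
  unfold dW
  rw [tok_o, tok_o, g_nil, mul_one, gf_one]; rfl

theorem s4 : g c sW ^ 4 = Cfsg.Agent.H519.TwFE.dd (SS c) := by
  rw [← g_pw, eqv c r_s4, gd]

theorem wi2 {i : ℕ} (hi : i < 3) : g c (wW i) * g c (wW i) = 1 := by
  have h := List.all_eq_true.1 r_w2 i (List.mem_range.2 hi)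
  rw [← g_app, eqv c h, g_nil]

theorem wis {i : ℕ} (hi : i < 3) : g c (wW i) * g c sW * (g c (wW i))⁻¹ = (g c sW)⁻¹ := by
  have h := List.all_eq_true.1 r_ws i (List.mem_range.2 hi)
  have e := eqv c h
  rw [g_app, g_app, g_pw] at e
  rw [inv_eq_of_mul_eq_one_left (wi2 c hi), e]
  symm
  apply inv_eq_of_mul_eq_one_left
  rw [← pow_succ, s12]

theorem wix {i : ℕ} (hi : i < 3) : (g c xW * g c (wW i)) ^ 3 = 1 := by
  have h := List.all_eq_true.1 r_xw i (List.mem_range.2 hi)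
  rw [← g_app, ← g_pw, eqv c h, g_nil]

theorem rel {i : ℕ} (hi : i < 3) : Rel (g c xW) (g c sW) (g c (wW i)) :=
  ⟨x13 c, x1 c, s12 c, sx c, wi2 c hi, wis c hi, wix c hi⟩

theorem ox : orderOf (g c xW) = 13 := by
  have : Fact (Nat.Prime 13) := ⟨by norm_num⟩
  exact orderOf_eq_prime (x13 c) (x1 c)

theorem oa : orderOf (g c aW) = 13 := by
  have : Fact (Nat.Prime 13) := ⟨by norm_num⟩
  exact orderOf_eq_prime (by rw [← g_pw, eqv c r_a13, g_nil]) (nev c n_a)

theorem ob : orderOf (g c bW) = 13 := by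
  have : Fact (Nat.Prime 13) := ⟨by norm_num⟩
  exact orderOf_eq_prime (by rw [← g_pw, eqv c r_b13, g_nil]) (nev c n_b)

theorem a13 : g c aW ^ 13 = 1 := by rw [← oa c, pow_orderOf_eq_one]
theorem b13 : g c bW ^ 13 = 1 := by rw [← ob c, pow_orderOf_eq_one]

theorem hab : g c aW * g c bW = g c bW * g c aW := by
  rw [← g_app, ← g_app, eqv c r_ab]

/-! ### traces -/

/-- the trace -/
noncomputable def tr (y : GG K) : K := Matrix.trace (AG K y)

theorem tr_conj {y z : GG K} (h : IsConj y z) : tr y = tr z := trace_conj h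

theorem tr_g {w : List Tok} (hw : ok w = true) {n : ℕ} (h : trc (ev w idM) = n) : tr (g c w) = gf θ n :=
  trace_wg c.hφ c.hθ hw h

/-- conjugation by `a1` -/
theorem ca (i j : ℕ) : IsConj (g c aW ^ i * g c bW ^ j) (g c aW ^ (5 * i) * g c bW ^ j) := by
  refine isConj_iff.2 ⟨g c a1W, ?_⟩
  have h1 := eqv c r_a1a
  have h2 := eqv c r_a1b
  rw [g_app, g_app, g_pw] at h1
  rw [g_app, g_app] at h2
  have e1 : g c a1W * g c aW * (g c a1W)⁻¹ = g c aW ^ 5 := by rw [h1, mul_inv_cancel_right]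
  have e2 : g c a1W * g c bW * (g c a1W)⁻¹ = g c bW := by rw [h2, mul_inv_cancel_right]
  calc g c a1W * (g c aW ^ i * g c bW ^ j) * (g c a1W)⁻¹ =
      (g c a1W * g c aW * (g c a1W)⁻¹) ^ i * (g c a1W * g c bW * (g c a1W)⁻¹) ^ j := by
        rw [conj_pow, conj_pow]; group
    _ = _ := by rw [e1, e2, ← pow_mul]

/-- conjugation by `b1` -/
theorem cb (i j : ℕ) : IsConj (g c aW ^ i * g c bW ^ j) (g c aW ^ i * g c bW ^ (5 * j)) := by
  refine isConj_iff.2 ⟨g c b1W, ?_⟩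
  have h1 := eqv c r_b1b
  have h2 := eqv c r_b1a
  rw [g_app, g_app, g_pw] at h1
  rw [g_app, g_app] at h2
  have e1 : g c b1W * g c bW * (g c b1W)⁻¹ = g c bW ^ 5 := by rw [h1, mul_inv_cancel_right]
  have e2 : g c b1W * g c aW * (g c b1W)⁻¹ = g c aW := by rw [h2, mul_inv_cancel_right]
  calc g c b1W * (g c aW ^ i * g c bW ^ j) * (g c b1W)⁻¹ =
      (g c b1W * g c aW * (g c b1W)⁻¹) ^ i * (g c b1W * g c bW * (g c b1W)⁻¹) ^ j := by
        rw [conj_pow, conj_pow]; group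
    _ = _ := by rw [e1, e2, ← pow_mul]

theorem cab (m n i j : ℕ) : IsConj (g c aW ^ i * g c bW ^ j) (g c aW ^ (5 ^ m * i) * g c bW ^ (5 ^ n * j)) := by
  have h1 : ∀ m, IsConj (g c aW ^ i * g c bW ^ j) (g c aW ^ (5 ^ m * i) * g c bW ^ j) := by
    intro m
    induction m with
    | zero => rw [pow_zero, one_mul]
    | succ m ih =>
      have := ca c (5 ^ m * i) j
      rw [← mul_assoc, ← pow_succ'] at this
      exact ih.trans this
  have h2 : ∀ n, IsConj (g c aW ^ (5 ^ m * i) * g c bW ^ j) (g c aW ^ (5 ^ m * i) * g c bW ^ (5 ^ n * j)) := by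
    intro n
    induction n with
    | zero => rw [pow_zero, one_mul]
    | succ n ih =>
      have := cb c (5 ^ m * i) (5 ^ n * j)
      rw [← mul_assoc, ← pow_succ'] at this
      exact ih.trans this
  exact (h1 m).trans (h2 n)

theorem red (i j : ℕ) : g c aW ^ i * g c bW ^ j = g c aW ^ (i % 13) * g c bW ^ (j % 13) := by
  rw [pow_eq_pow_mod i (a13 c), pow_eq_pow_mod j (b13 c)]

theorem cab' {i j i' j' : ℕ} (m n : ℕ) (hi : (5 ^ m * i) % 13 = i' % 13) (hj : (5 ^ n * j) % 13 = j' % 13) :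
    IsConj (g c aW ^ i * g c bW ^ j) (g c aW ^ i' * g c bW ^ j') := by
  have h := cab c m n i j
  rw [red c (5 ^ m * i), hi, hj, ← red c i'] at h
  exact h

end Cfsg.Agent.H857.Ree8.Facts
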