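import Cfsg.Agent.H857.Ree8.Facts

/-!
# `²F₄(8)`: the classes of the elements `a ^ i b ^ j` of order 13
-/

set_option autoImplicit false
set_option linter.unusedSectionVars false
set_option maxRecDepth 20000

namespace Cfsg.Agent.H857.Ree8.Facts2

open Cfsg.Lie Cfsg.Agent.ChevalleyStructure.TwF4.TwistedFix
open Cfsg.Agent.H857.Ree8 Cfsg.Agent.H857.Ree8.Root Cfsg.Agent.H857.Ree8.Code Cfsg.Agent.H857.Ree8.Word
open Cfsg.Agent.H857.Ree8.Data Cfsg.Agent.H857.Ree8.Enum Cfsg.Agent.H857.Ree8.Facts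
open Cfsg.Agent.KFacts.TwF4 Subgroup

universe u

/-- representatives modulo 13 of the orbits of `5` -/
def rp (i : ℕ) : ℕ := ([0, 1, 2, 2, 4, 1, 4, 4, 1, 4, 2, 2, 1] : List ℕ).getD (i % 13) 0

theorem rp_mod (i : ℕ) : rp (i % 13) = rp i := by unfold rp; rw [Nat.mod_mod]

theorem rp_ex (i : ℕ) : ∃ m, (5 ^ m * i) % 13 = rp i % 13 := by
  have h : ∀ r < 13, ∃ m < 4, (5 ^ m * r) % 13 = rp r % 13 := by decide
  obtain ⟨m, -, hm⟩ := h (i % 13) (Nat.mod_lt _ (by norm_num))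
  refine ⟨m, ?_⟩
  rw [rp_mod, Nat.mul_mod_mod] at hm
  exact hm

theorem rp_cases (i : ℕ) : rp i = 0 ∨ rp i = 1 ∨ rp i = 2 ∨ rp i = 4 := by
  have h : ∀ r < 13, rp r = 0 ∨ rp r = 1 ∨ rp r = 2 ∨ rp r = 4 := by decide
  have := h (i % 13) (Nat.mod_lt _ (by norm_num))
  rwa [rp_mod] at this

/-- the condition of being conjugate to `x` -/
def Eig (i j : ℕ) : Prop := rp i ≠ 0 ∧ rp j ≠ 0 ∧ rp i ≠ rp j

instance (i j : ℕ) : Decidable (Eig i j) := by unfold Eig; infer_instance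

theorem Eig_mod (i j : ℕ) : Eig (i % 13) (j % 13) ↔ Eig i j := by unfold Eig; rw [rp_mod, rp_mod]

theorem eig_iff (i j : ℕ) : Eig i j ↔ (¬ 13 ∣ i ∧ ¬ 13 ∣ j ∧ ¬ (i ^ 4 ≡ j ^ 4 [MOD 13])) := by
  have h : ∀ i < 13, ∀ j < 13, (Eig i j ↔ (¬ i = 0 ∧ ¬ j = 0 ∧ ¬ (i ^ 4 % 13 = j ^ 4 % 13))) := by decide
  have := h (i % 13) (Nat.mod_lt _ (by norm_num)) (j % 13) (Nat.mod_lt _ (by norm_num))
  rw [Eig_mod, ← Nat.pow_mod, ← Nat.pow_mod] at this
  rw [this, Nat.dvd_iff_mod_eq_zero, Nat.dvd_iff_mod_eq_zero, Nat.ModEq]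

/-- the traces -/
def tT (p q : ℕ) : ℕ :=
  if p = 0 then (if q = 1 then 5 else if q = 2 then 7 else if q = 4 then 3 else 0)
  else if q = 0 then (if p = 1 then 5 else if p = 2 then 7 else if p = 4 then 3 else 0)
  else if p = q then (if q = 1 then 3 else if q = 2 then 5 else if q = 4 then 7 else 0) else 0

theorem tT_ne (i j : ℕ) (h : ¬ (13 ∣ i ∧ 13 ∣ j)) (he : ¬ Eig i j) : tT (rp i) (rp j) ≠ 0 ∧
    tT (rp i) (rp j) ≠ tT (rp (4 * i)) (rp (4 * j)) := by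
  have key : ∀ i < 13, ∀ j < 13, (i = 0 ∧ j = 0) ∨ Eig i j ∨ (tT (rp i) (rp j) ≠ 0 ∧
    tT (rp i) (rp j) ≠ tT (rp (4 * i)) (rp (4 * j))) := by decide
  have := ((key (i % 13) (Nat.mod_lt _ (by norm_num)) (j % 13) (Nat.mod_lt _ (by norm_num))).resolve_left
    (fun h' => h ⟨Nat.dvd_of_mod_eq_zero h'.1, Nat.dvd_of_mod_eq_zero h'.2⟩)).resolve_left (fun h' => he ((Eig_mod i j).1 h'))
  rw [rp_mod, rp_mod, ← rp_mod (4 * (i % 13)), Nat.mul_mod_mod, rp_mod, ← rp_mod (4 * (j % 13)), Nat.mul_mod_mod, rp_mod] at this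
  exact this

theorem tT_lt (p q : ℕ) : tT p q < 8 := by
  unfold tT
  split_ifs <;> norm_num

variable {K : Type u} [Field K] [Fintype K] [CharP K 2] {φ : K →+* K} {θ : K} (c : Ctx K φ θ)

theorem conj_rp (i j : ℕ) : IsConj (g c aW ^ i * g c bW ^ j) (g c aW ^ rp i * g c bW ^ rp j) := by
  obtain ⟨m, hm⟩ := rp_ex i
  obtain ⟨n, hn⟩ := rp_ex j
  exact cab' c m n hm hn

theorem isConj_pow' {G : Type*} [Group G] {a b : G} (n : ℕ) (h : IsConj a b) : IsConj (a ^ n) (b ^ n) := by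
  obtain ⟨k, hk⟩ := isConj_iff.1 h
  refine isConj_iff.2 ⟨k, ?_⟩
  rw [← hk, conj_pow]

theorem ab_pow (i j n : ℕ) : (g c aW ^ i * g c bW ^ j) ^ n = g c aW ^ (i * n) * g c bW ^ (j * n) := by
  have h : Commute (g c aW) (g c bW) := hab c
  rw [(h.pow_pow i j).mul_pow, pow_mul, pow_mul]

theorem x_two : IsConj (g c xW) (g c xW ^ 2) := isConj_iff.2 ⟨g c sW, sx c⟩

theorem x_four : IsConj (g c xW) (g c xW ^ 4) := by
  refine (x_two c).trans ?_
  have := isConj_pow' 2 (x_two c)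
  rw [← pow_mul] at this
  exact this

theorem x_ab2 : IsConj (g c xW) (g c aW ^ 1 * g c bW ^ 2) := by
  have h := eqv c r_g1
  rw [g_app, g_app, g_app, g_pw] at h
  refine isConj_iff.2 ⟨(g c g1W)⁻¹, ?_⟩
  rw [inv_inv, mul_assoc, ← h]
  group

theorem x_ab4 : IsConj (g c xW) (g c aW ^ 1 * g c bW ^ 4) := by
  have h := eqv c r_g2
  rw [g_app, g_app, g_app, g_pw] at h
  refine isConj_iff.2 ⟨(g c g2W)⁻¹, ?_⟩
  rw [inv_inv, mul_assoc, ← h]
  group

theorem x_pair {k : ℕ} (hk : k = 1 ∨ k = 2 ∨ k = 4) : IsConj (g c xW) (g c aW ^ k * g c bW ^ (2 * k)) ∧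
    IsConj (g c xW) (g c aW ^ k * g c bW ^ (4 * k)) := by
  have h1 : IsConj (g c xW) (g c xW ^ k) := by
    rcases hk with rfl | rfl | rfl
    · rw [pow_one (g c xW)]
    · exact x_two c
    · exact x_four c
  have h2 := isConj_pow' k (x_ab2 c)
  have h4 := isConj_pow' k (x_ab4 c)
  rw [ab_pow, one_mul] at h2 h4
  exact ⟨h1.trans h2, h1.trans h4⟩

theorem x_rp : ∀ p q : ℕ, (p = 1 ∨ p = 2 ∨ p = 4) → (q = 1 ∨ q = 2 ∨ q = 4) → p ≠ q →
    IsConj (g c xW) (g c aW ^ p * g c bW ^ q) := by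
  intro p q hp hq hne
  obtain ⟨h1, h2⟩ := x_pair c hp
  rcases hp with rfl | rfl | rfl <;> rcases hq with rfl | rfl | rfl
  · exact absurd rfl hne
  · exact h1
  · exact h2
  · exact h2.trans (cab' c 0 1 (by norm_num) (by norm_num))
  · exact absurd rfl hne
  · exact h1
  · exact h1.trans (cab' c 0 1 (by norm_num) (by norm_num))
  · exact h2.trans (cab' c 0 1 (by norm_num) (by norm_num))
  · exact absurd rfl hne

theorem x_conj {i j : ℕ} (h : Eig i j) : IsConj (g c xW) (g c aW ^ i * g c bW ^ j) := by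
  refine (x_rp c (rp i) (rp j) ?_ ?_ h.2.2).trans (conj_rp c i j).symm
  · rcases rp_cases i with h1 | h1
    · exact absurd h1 h.1
    · exact h1
  · rcases rp_cases j with h1 | h1
    · exact absurd h1 h.2.1
    · exact h1

theorem okx : ok xW = true := by decide
theorem oka : ok aW = true := by decide
theorem okb : ok bW = true := by decide

theorem trx : tr (g c xW) = 0 := by
  rw [tr_g c okx tr_x, gf_zero]

theorem tr_pa {n k : ℕ} (h : trc (ev (pw aW n) idM) = k) : tr (g c aW ^ n) = gf θ k := by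
  rw [← g_pw]
  exact tr_g c (ok_pw oka n) h

theorem tr_pb {n k : ℕ} (h : trc (ev (pw bW n) idM) = k) : tr (g c bW ^ n) = gf θ k := by
  rw [← g_pw]
  exact tr_g c (ok_pw okb n) h

theorem tr_a1' : trc (ev (pw aW 1) idM) = 5 := by decide +kernel
theorem tr_b1' : trc (ev (pw bW 1) idM) = 5 := by decide +kernel
theorem tr_ab1' : trc (ev (pw aW 1 ++ pw bW 1) idM) = 3 := by decide +kernel
theorem tr_one' : trc (ev [] idM) = 0 := by decide +kernel

theorem tr_pab {n m k : ℕ} (h : trc (ev (pw aW n ++ pw bW m) idM) = k) : tr (g c aW ^ n * g c bW ^ m) = gf θ k := by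
  rw [← g_pw, ← g_pw, ← g_app]
  exact tr_g c (by rw [ok_append, ok_pw oka n, ok_pw okb m]; rfl) h

theorem tr_rp : ∀ p q : ℕ, (p = 0 ∨ p = 1 ∨ p = 2 ∨ p = 4) → (q = 0 ∨ q = 1 ∨ q = 2 ∨ q = 4) →
    tr (g c aW ^ p * g c bW ^ q) = gf θ (tT p q) := by
  intro p q hp hq
  have hx : ∀ {p q : ℕ}, (p = 1 ∨ p = 2 ∨ p = 4) → (q = 1 ∨ q = 2 ∨ q = 4) → p ≠ q → tr (g c aW ^ p * g c bW ^ q) = gf θ 0 := by
    intro p q hp hq hne
    rw [← tr_conj (x_rp c p q hp hq hne), trx, gf_zero]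
  rcases hp with rfl | rfl | rfl | rfl <;> rcases hq with rfl | rfl | rfl | rfl
  · rw [pow_zero, pow_zero, one_mul, ← g_nil c]; exact tr_g c rfl tr_one'
  · rw [pow_zero, one_mul]; exact tr_pb c tr_b1'
  · rw [pow_zero, one_mul]; exact tr_pb c tr_b.2.1
  · rw [pow_zero, one_mul]; exact tr_pb c tr_b.2.2
  · rw [pow_zero, mul_one]; exact tr_pa c tr_a1'
  · exact tr_pab c tr_ab1'
  · exact hx (by simp) (by simp) (by simp)
  · exact hx (by simp) (by simp) (by simp)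
  · rw [pow_zero, mul_one]; exact tr_pa c tr_a.2.1
  · exact hx (by simp) (by simp) (by simp)
  · exact tr_pab c tr_ab.2.1
  · exact hx (by simp) (by simp) (by simp)
  · rw [pow_zero, mul_one]; exact tr_pa c tr_a.2.2
  · exact hx (by simp) (by simp) (by simp)
  · exact hx (by simp) (by simp) (by simp)
  · exact tr_pab c tr_ab.2.2

theorem tr_ij (i j : ℕ) : tr (g c aW ^ i * g c bW ^ j) = gf θ (tT (rp i) (rp j)) := by
  rw [tr_conj (conj_rp c i j)]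
  exact tr_rp c _ _ (rp_cases i) (rp_cases j)

theorem ab_one {i j : ℕ} (hi : 13 ∣ i) (hj : 13 ∣ j) : g c aW ^ i * g c bW ^ j = 1 := by
  obtain ⟨m, rfl⟩ := hi
  obtain ⟨n, rfl⟩ := hj
  rw [pow_mul, pow_mul, a13, b13, one_pow, one_pow, one_mul]

/-- the elements conjugate to `x` -/
theorem x_iff (i j : ℕ) : IsConj (g c xW) (g c aW ^ i * g c bW ^ j) ↔
    (¬ 13 ∣ i ∧ ¬ 13 ∣ j ∧ ¬ (i ^ 4 ≡ j ^ 4 [MOD 13])) := by
  rw [← eig_iff]
  constructor
  · intro h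
    by_contra he
    have h0 : ¬ (13 ∣ i ∧ 13 ∣ j) := by
      rintro ⟨hi, hj⟩
      rw [ab_one c hi hj] at h
      obtain ⟨k, hk⟩ := isConj_iff.1 h.symm
      rw [mul_one, mul_inv_cancel] at hk
      exact x1 c hk.symm
    have h1 := tr_conj h
    rw [trx, tr_ij, ← gf_zero (θ := θ)] at h1
    exact (tT_ne i j h0 he).1 (gf_inj c.hθ (by norm_num) (tT_lt _ _) h1).symm
  · exact x_conj c

/-- `x` is not conjugate to a power of `a` -/
theorem x_not_a (k : ℕ) : ¬ IsConj (g c xW) (g c aW ^ k) := by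
  intro h
  have : g c aW ^ k = g c aW ^ k * g c bW ^ 0 := by rw [pow_zero, mul_one]
  rw [this, x_iff] at h
  exact h.2.1 (dvd_zero _)

/-- rational elements -/
theorem of_rat {i j : ℕ} (h0 : ¬ (13 ∣ i ∧ 13 ∣ j)) (h : IsConj (g c aW ^ i * g c bW ^ j) ((g c aW ^ i * g c bW ^ j) ^ 4)) :
    IsConj (g c xW) (g c aW ^ i * g c bW ^ j) := by
  by_contra hx
  have he : ¬ Eig i j := fun he => hx (x_conj c he)
  have h1 := tr_conj h
  rw [ab_pow, mul_comm i 4, mul_comm j 4, tr_ij, tr_ij] at h1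
  exact (tT_ne i j h0 he).2 (gf_inj c.hθ (tT_lt _ _) (tT_lt _ _) h1)

end Cfsg.Agent.H857.Ree8.Facts2
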