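import Cfsg.Agent.H857.Ree8.Facts2

/-!
# `²F₄(8)`: the centralizer of `x`
-/

set_option autoImplicit false
set_option linter.unusedSectionVars false
set_option maxRecDepth 20000

namespace Cfsg.Agent.H857.Ree8.Facts3

open Cfsg.Lie Cfsg.Agent.ChevalleyStructure.TwF4.TwistedFix
open Cfsg.Agent.H857.Ree8 Cfsg.Agent.H857.Ree8.Root Cfsg.Agent.H857.Ree8.Code Cfsg.Agent.H857.Ree8.Word
open Cfsg.Agent.H857.Ree8.Data Cfsg.Agent.H857.Ree8.Enum Cfsg.Agent.H857.Ree8.Facts Cfsg.Agent.H857.Ree8.Facts2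
open Cfsg.Agent.KFacts.TwF4 Subgroup
open Cfsg.Agent.SplitTwo Cfsg.Agent.SplitTwo.ZS Cfsg.Agent.TitsThree.RankTwoZ Cfsg.Agent.SplitTwo.RootSysZ
open Cfsg.Agent.H496.TwEight

universe u

variable {K : Type u} [Field K] [Fintype K] [CharP K 2] {φ : K →+* K} {θ : K} (c : Ctx K φ θ)

include c in
/-- elements commuting with an involution and an element of order 13 -/
theorem prime_cent {t y z : GG K} (ht : orderOf t = 2) (hy : orderOf y = 13) (hzt : z * t = t * z) (hyt : y * t = t * y)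
    (hzy : z * y = y * z) (hp : (orderOf z).Prime) : orderOf z = 2 ∨ orderOf z = 13 := by
  by_cases h2 : orderOf z = 2
  · exact Or.inl h2
  right
  have hyC : y ∈ centralizer ({t} : Set (GG K)) := mem_centralizer_singleton_iff.2 hyt
  have hzC : z ∈ centralizer ({t} : Set (GG K)) := mem_centralizer_singleton_iff.2 hzt
  rcases Card.inv_cases_eight (SS c) (card8 c) rfl ht with ⟨-, k, hk⟩ | ⟨hcard, -⟩
  · rw [hk] at hyC hzC
    obtain ⟨p, hp', rfl⟩ := hyC
    obtain ⟨q, hq, rfl⟩ := hzC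
    have op : orderOf p = 13 := by rw [← hy]; exact (MulEquiv.orderOf_eq (MulAut.conj k) p).symm
    have oq : orderOf q = orderOf ((MulAut.conj k).toMonoidHom q) := (MulEquiv.orderOf_eq (MulAut.conj k) q).symm
    rw [← oq] at hp h2 ⊢
    refine PLFacts.PL_cent (SS c) (card8 c) rfl hp' hq op hp h2 ?_
    apply (MulAut.conj k).injective
    rw [map_mul, map_mul]
    exact hzy.symm
  · exfalso
    have h1 := Subgroup.orderOf_dvd_natCard _ hyC
    rw [hy, hcard] at h1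
    norm_num at h1

theorem a_PL : g c aW ∈ (SS c).PL := by
  unfold aW
  rw [tok_e, tok_e, g_nil, mul_one]
  exact mul_mem (X_le_J (k := 8) (by norm_num) le_rfl ((SS c).mX8 _ _)) (X_le_J (k := 0) le_rfl (by norm_num) ((SS c).e_mem 0 _ _))

/-- `C(x)` has odd order -/
theorem odd_Cx : Odd (Nat.card (centralizer ({g c xW} : Set (GG K)))) := by
  rw [← Nat.not_even_iff_odd]
  intro h
  obtain ⟨t, ht⟩ := exists_prime_orderOf_dvd_card' (G := centralizer ({g c xW} : Set (GG K))) 2 (even_iff_two_dvd.1 h)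
  have ht' : orderOf (t : GG K) = 2 := by rw [Subgroup.orderOf_coe, ht]
  have hxC : g c xW ∈ centralizer ({(t : GG K)} : Set (GG K)) :=
    mem_centralizer_singleton_iff.2 (mem_centralizer_singleton_iff.1 t.2).symm
  rcases Card.inv_cases_eight (SS c) (card8 c) rfl ht' with ⟨-, k, hk⟩ | ⟨hcard, -⟩
  · rw [hk] at hxC
    obtain ⟨p, hp', hpx⟩ := hxC
    have op : orderOf p = 13 := by rw [← ox c, ← hpx]; exact (MulEquiv.orderOf_eq (MulAut.conj k) p).symm
    obtain ⟨q, -, n, hq⟩ := PLFacts.PL_syl (SS c) (card8 c) hp' (a_PL c) op (oa c)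
    refine x_not_a c n ?_
    have h1 : IsConj p (g c xW) := isConj_iff.2 ⟨k, hpx⟩
    exact h1.symm.trans (isConj_iff.2 ⟨q, hq⟩)
  · have h1 := Subgroup.orderOf_dvd_natCard _ hxC
    rw [ox, hcard] at h1
    norm_num at h1

/-- the involution `v` -/
theorem v_ne : g c [Tok.o 2 1] ≠ 1 := by
  rw [gv]
  intro h
  exact one_ne_zero ((SS c).o_eq_one h)

theorem v2 : g c [Tok.o 2 1] * g c [Tok.o 2 1] = 1 := by rw [← g_app, eqv c r_v2, g_nil]

theorem vx : g c [Tok.o 2 1] * g c xW * (g c [Tok.o 2 1])⁻¹ = (g c xW)⁻¹ := by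
  have h := eqv c r_vx
  rw [g_app, g_app, g_app, g_nil] at h
  rw [inv_eq_of_mul_eq_one_left (v2 c)]
  exact eq_inv_of_mul_eq_one_left h

theorem v_s6 : g c [Tok.o 2 1] = g c sW ^ 6 := by rw [s6, gv]

theorem cent_v : centralizer ({g c [Tok.o 2 1]} : Set (GG K)) = (SS c).HO := by
  rw [gv]
  exact (SS c).centralizer_o one_ne_zero

theorem d_s4 : g c dW = g c sW ^ 4 := by rw [s4, gd]

theorem od : orderOf (g c dW) = 3 := by
  have : Fact (Nat.Prime 3) := ⟨by norm_num⟩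
  exact orderOf_eq_prime (by rw [← g_pw, eqv c r_d3, g_nil]) (nev c n_d)

theorem sx_pow {G : Type*} [Group G] {x s : G} (h : s * x * s⁻¹ = x ^ 2) (n : ℕ) : s ^ n * x * (s ^ n)⁻¹ = x ^ (2 ^ n) := by
  induction n with
  | zero => rw [pow_zero, one_mul, inv_one, mul_one, pow_zero, pow_one]
  | succ n ih =>
    rw [pow_succ']
    calc s * s ^ n * x * (s * s ^ n)⁻¹ = s * (s ^ n * x * (s ^ n)⁻¹) * s⁻¹ := by group
      _ = (s * x * s⁻¹) ^ (2 ^ n) := by rw [ih, conj_pow]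
      _ = _ := by rw [h, ← pow_mul, pow_succ']

theorem dx : g c dW * g c xW * (g c dW)⁻¹ = g c xW ^ 3 := by
  rw [d_s4, sx_pow (sx c) 4]
  have h : (2 : ℕ) ^ 4 = 13 + 3 := by norm_num
  rw [h, pow_add, x13, one_mul]

/-- no fixed points of `v` on `C(x)` -/
theorem hfix (z : GG K) (hx : z * g c xW = g c xW * z) (hv : z * g c [Tok.o 2 1] = g c [Tok.o 2 1] * z) : z = 1 := by
  set D := centralizer ({g c xW} : Set (GG K)) ⊓ centralizer ({g c [Tok.o 2 1]} : Set (GG K)) with hD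
  have hdv : g c dW * g c [Tok.o 2 1] = g c [Tok.o 2 1] * g c dW := by
    rw [d_s4, v_s6, ← pow_add, ← pow_add]
  have hDD : D = ⊥ := by
    refine HOFacts.odd_HO (SS c) (card8 c) rfl (D := D) ?_ ?_ (d := g c dW) ?_ (od c) ?_ ?_
    · rw [← cent_v]; exact inf_le_right
    · exact Odd.of_dvd_nat (odd_Cx c) (Subgroup.card_dvd_of_le inf_le_left)
    · rw [← cent_v]
      exact mem_centralizer_singleton_iff.2 hdv
    · intro a ha
      obtain ⟨h1, h2⟩ := mem_inf.1 ha
      rw [mem_centralizer_singleton_iff] at h1 h2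
      refine mem_inf.2 ⟨?_, ?_⟩
      · rw [mem_centralizer_singleton_iff]
        -- x = (d x d⁻¹) ^ 9
        have e : g c xW = g c dW * g c xW ^ 9 * (g c dW)⁻¹ := by
          rw [← conj_pow, dx, ← pow_mul]
          have h : 3 * 9 = 13 * 2 + 1 := by norm_num
          rw [h, pow_add, pow_mul, x13, one_pow, one_mul, pow_one (g c xW)]
        have h9 : a * g c xW ^ 9 = g c xW ^ 9 * a := (Commute.pow_right (show Commute a (g c xW) from h1) 9).eq
        calc g c dW * a * (g c dW)⁻¹ * g c xW = g c dW * a * (g c dW)⁻¹ * (g c dW * g c xW ^ 9 * (g c dW)⁻¹) := by rw [← e]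
          _ = g c dW * (a * g c xW ^ 9) * (g c dW)⁻¹ := by group
          _ = g c dW * (g c xW ^ 9 * a) * (g c dW)⁻¹ := by rw [h9]
          _ = (g c dW * g c xW ^ 9 * (g c dW)⁻¹) * (g c dW * a * (g c dW)⁻¹) := by group
          _ = g c xW * (g c dW * a * (g c dW)⁻¹) := by rw [← e]
      · rw [mem_centralizer_singleton_iff]
        have hdv' : Commute (g c dW) (g c [Tok.o 2 1]) := hdv
        have h2' : Commute a (g c [Tok.o 2 1]) := h2
        exact ((hdv'.mul_left h2').mul_left hdv'.inv_left).eq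
    · intro hd
      have h1 := mem_centralizer_singleton_iff.1 (mem_inf.1 hd).1
      have h2 := dx c
      rw [h1, mul_inv_cancel_right] at h2
      have h3 : g c xW ^ 2 = 1 := by
        have h4 : g c xW * 1 = g c xW * g c xW ^ 2 := by rw [mul_one, ← pow_succ', ← h2]
        exact (mul_left_cancel h4).symm
      have h5 := orderOf_dvd_of_pow_eq_one h3
      rw [ox] at h5
      norm_num at h5
  have : z ∈ D := ⟨mem_centralizer_singleton_iff.2 hx, mem_centralizer_singleton_iff.2 hv⟩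
  rw [hDD] at this
  exact mem_bot.1 this

/-! ### the centralizer of `x` -/

/-- the first element of order 13 -/
noncomputable def y1 : GG K := g c g1W * g c aW * (g c g1W)⁻¹
/-- the second element of order 13 -/
noncomputable def y2 : GG K := g c g1W * g c bW * (g c g1W)⁻¹
/-- conjugate involution -/
noncomputable def t1 : GG K := g c g1W * g c [Tok.e 4 0 1] * (g c g1W)⁻¹
/-- conjugate involution -/
noncomputable def t2 : GG K := g c g1W * g c [Tok.e 6 0 1] * (g c g1W)⁻¹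

theorem oy1 : orderOf (y1 c) = 13 := by
  rw [← oa c]
  exact MulEquiv.orderOf_eq (MulAut.conj (g c g1W)) _

theorem oy2 : orderOf (y2 c) = 13 := by
  rw [← ob c]
  exact MulEquiv.orderOf_eq (MulAut.conj (g c g1W)) _

theorem y12 : y1 c * y2 c = y2 c * y1 c := by
  unfold y1 y2
  have h := hab c
  calc g c g1W * g c aW * (g c g1W)⁻¹ * (g c g1W * g c bW * (g c g1W)⁻¹) = g c g1W * (g c aW * g c bW) * (g c g1W)⁻¹ := by
        group
    _ = _ := by rw [h]; group

theorem y_ij (i j : ℕ) : y1 c ^ i * y2 c ^ j = g c g1W * (g c aW ^ i * g c bW ^ j) * (g c g1W)⁻¹ := by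
  unfold y1 y2
  rw [conj_pow, conj_pow]
  group

theorem xy : g c xW = y1 c * y2 c ^ 2 := by
  have h := eqv c r_g1
  rw [g_app, g_app, g_app, g_pw] at h
  have h2 := y_ij c 1 2
  rw [pow_one (y1 c), pow_one (g c aW)] at h2
  rw [h2, ← mul_assoc, h, mul_inv_cancel_right]

theorem conj_mul_conj {G : Type*} [Group G] (k a b : G) : k * a * k⁻¹ * (k * b * k⁻¹) = k * (a * b) * k⁻¹ := by group

theorem t12 : g c [Tok.e 4 0 1] * g c [Tok.e 4 0 1] = 1 := by rw [← g_app, eqv c r_t1, g_nil]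
theorem t22 : g c [Tok.e 6 0 1] * g c [Tok.e 6 0 1] = 1 := by rw [← g_app, eqv c r_t2, g_nil]

theorem ot1 : orderOf (t1 c) = 2 := by
  have : Fact (Nat.Prime 2) := ⟨Nat.prime_two⟩
  have h : orderOf (g c [Tok.e 4 0 1]) = 2 := orderOf_eq_prime (by rw [pow_two, t12]) (nev c n_t1)
  exact (MulEquiv.orderOf_eq (MulAut.conj (g c g1W)) _).trans h

theorem ot2 : orderOf (t2 c) = 2 := by
  have : Fact (Nat.Prime 2) := ⟨Nat.prime_two⟩
  have h : orderOf (g c [Tok.e 6 0 1]) = 2 := orderOf_eq_prime (by rw [pow_two, t22]) (nev c n_t2)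
  exact (MulEquiv.orderOf_eq (MulAut.conj (g c g1W)) _).trans h

theorem t1y1 : t1 c * y1 c * (t1 c)⁻¹ = (y1 c)⁻¹ := by
  have h := eqv c r_t1a
  rw [g_app, g_app, g_app, g_nil] at h
  have e : t1 c * t1 c = 1 := by
    unfold t1
    rw [conj_mul_conj, t12, mul_one, mul_inv_cancel]
  rw [inv_eq_of_mul_eq_one_left e]
  refine eq_inv_of_mul_eq_one_left ?_
  unfold t1 y1
  rw [conj_mul_conj, conj_mul_conj, conj_mul_conj, h, mul_one, mul_inv_cancel]

theorem t2y2 : t2 c * y2 c * (t2 c)⁻¹ = (y2 c)⁻¹ := by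
  have h := eqv c r_t2b
  rw [g_app, g_app, g_app, g_nil] at h
  have e : t2 c * t2 c = 1 := by
    unfold t2
    rw [conj_mul_conj, t22, mul_one, mul_inv_cancel]
  rw [inv_eq_of_mul_eq_one_left e]
  refine eq_inv_of_mul_eq_one_left ?_
  unfold t2 y2
  rw [conj_mul_conj, conj_mul_conj, conj_mul_conj, h, mul_one, mul_inv_cancel]

theorem t1y2 : t1 c * y2 c = y2 c * t1 c := by
  have h := eqv c r_t1b
  rw [g_app, g_app] at h
  unfold t1 y2
  rw [conj_mul_conj, conj_mul_conj, h]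

theorem t2y1 : t2 c * y1 c = y1 c * t2 c := by
  have h := eqv c r_t2a
  rw [g_app, g_app] at h
  unfold t2 y1
  rw [conj_mul_conj, conj_mul_conj, h]

theorem y_nmem : y2 c ∉ Subgroup.zpowers (y1 c) := by
  intro h
  -- `t1` inverts `y1` and centralises `y2`
  obtain ⟨k, hk⟩ := mem_zpowers_iff.1 h
  have h1 : t1 c * y2 c * (t1 c)⁻¹ = (y2 c)⁻¹ := by
    rw [← hk, ← conj_zpow, t1y1, inv_zpow]
  rw [t1y2, mul_inv_cancel_right] at h1
  have h2 : y2 c ^ 2 = 1 := by
    rw [pow_two]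
    nth_rewrite 2 [h1]
    exact mul_inv_cancel _
  have h5 := orderOf_dvd_of_pow_eq_one h2
  rw [oy2] at h5
  norm_num at h5

include c in
theorem not13 : ¬ 13 ^ 3 ∣ Nat.card (GG K) := by
  rw [c.hcard]
  norm_num

theorem centx : Nat.card (centralizer ({g c xW} : Set (GG K))) = 13 ^ 2 ∧
    (∀ z : GG K, z * g c xW = g c xW * z → g c [Tok.o 2 1] * z * (g c [Tok.o 2 1])⁻¹ = z⁻¹) ∧
      (∀ z : GG K, z * g c xW = g c xW * z → ∃ i j : ℕ, z = y1 c ^ i * y2 c ^ j) :=
  Cfsg.Agent.H47.TFour.cent (not13 c) (odd_Cx c) (v2 c) (vx c) (hfix c) (y12 c) (oy1 c) (oy2 c) (y_nmem c) (xy c)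
    (t1y1 c) (t1y2 c) (t2y2 c) (t2y1 c)
    (fun _ h1 h2 hp => prime_cent c (ot1 c) (oy2 c) h1 (t1y2 c).symm h2 hp)
    (fun _ h1 h2 hp => prime_cent c (ot2 c) (oy1 c) h1 (t2y1 c).symm h2 hp)
    (by unfold t1; rw [conj_mul_conj, t12, mul_one, mul_inv_cancel])
    (by unfold t2; rw [conj_mul_conj, t22, mul_one, mul_inv_cancel])

theorem hCx_iff (z : GG K) : z * g c xW = g c xW * z ↔ ∃ i j : ℕ, z = y1 c ^ i * y2 c ^ j := by
  refine ⟨(centx c).2.2 z, ?_⟩
  rintro ⟨i, j, rfl⟩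
  rw [xy]
  have h : Commute (y1 c) (y2 c) := y12 c
  exact (((Commute.refl (y1 c)).pow_left i).mul_right (h.pow_pow i 2)).mul_left
    ((h.symm.pow_left j).mul_right ((Commute.refl (y2 c)).pow_pow j 2)) |>.eq

theorem y_iff (i j : ℕ) : IsConj (g c xW) (y1 c ^ i * y2 c ^ j) ↔
    (¬ 13 ∣ i ∧ ¬ 13 ∣ j ∧ ¬ (i ^ 4 ≡ j ^ 4 [MOD 13])) := by
  rw [← x_iff c]
  have h : IsConj (g c aW ^ i * g c bW ^ j) (y1 c ^ i * y2 c ^ j) := isConj_iff.2 ⟨g c g1W, (y_ij c i j).symm⟩
  exact ⟨fun h' => h'.trans h.symm, fun h' => h'.trans h⟩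

theorem hN : Nat.card (normalizer (centralizer ({g c xW} : Set (GG K)) : Set (GG K))) ∣ 13 ^ 2 * 96 :=
  Cfsg.Agent.H47.TFour.card_dvd (y12 c) (oy1 c) (oy2 c) (y_nmem c) (hCx_iff c) (y_iff c)

/-- elements of order 13 which are conjugate to their fourth power -/
theorem hrat (y : GG K) (hy : orderOf y = 13) (h : IsConj y (y ^ 4)) : IsConj (g c xW) y := by
  have : Fact (Nat.Prime 13) := ⟨by norm_num⟩
  have hC := (centx c).1
  have hind : ¬ 13 ∣ (centralizer ({g c xW} : Set (GG K))).index := by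
    intro hd
    apply not13 c
    rw [← (centralizer ({g c xW} : Set (GG K))).card_mul_index, hC, pow_succ]
    exact Nat.mul_dvd_mul_left _ hd
  let P : Sylow 13 (GG K) := (IsPGroup.of_card (n := 2) (G := centralizer ({g c xW} : Set (GG K))) (p := 13) hC).toSylow hind
  have hyp : IsPGroup 13 (zpowers y) := IsPGroup.of_card (n := 1) (by rw [Nat.card_zpowers, hy, pow_one])
  obtain ⟨Q, hQ⟩ := hyp.exists_le_sylow
  obtain ⟨k, hk⟩ := MulAction.exists_smul_eq (GG K) Q P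
  have hy1 : k * y * k⁻¹ ∈ centralizer ({g c xW} : Set (GG K)) := by
    have h1 : k * y * k⁻¹ ∈ ((k • Q : Sylow 13 (GG K)) : Subgroup (GG K)) := by
      rw [Sylow.coe_subgroup_smul]
      exact ⟨y, hQ (mem_zpowers y), rfl⟩
    rw [hk] at h1
    exact h1
  obtain ⟨i, j, hij⟩ := (hCx_iff c _).1 (mem_centralizer_singleton_iff.1 hy1)
  have h2 : IsConj (g c aW ^ i * g c bW ^ j) y := by
    have h3 : IsConj (g c aW ^ i * g c bW ^ j) (y1 c ^ i * y2 c ^ j) := isConj_iff.2 ⟨g c g1W, (y_ij c i j).symm⟩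
    rw [← hij] at h3
    exact h3.trans (isConj_iff.2 ⟨k, rfl⟩ : IsConj y (k * y * k⁻¹)).symm
  have h0 : ¬ (13 ∣ i ∧ 13 ∣ j) := by
    rintro ⟨hi, hj⟩
    rw [ab_one c hi hj] at h2
    obtain ⟨n, hn⟩ := isConj_iff.1 h2
    rw [mul_one, mul_inv_cancel] at hn
    rw [← hn, orderOf_one] at hy
    norm_num at hy
  exact (of_rat c h0 ((h2.trans h).trans (isConj_pow' 4 h2).symm)).trans h2

theorem hv : ¬ 13 ∣ Nat.card (centralizer ({g c sW ^ 6} : Set (GG K))) := by
  rw [← v_s6, cent_v, Card.card_HO (SS c) (card8 c)]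
  norm_num

include c in
theorem h35 (t a b : GG K) (ht : orderOf t = 2) (ha : orderOf a = 3) (hb : orderOf b = 5) (hta : t * a = a * t) :
    t * b ≠ b * t := by
  intro htb
  have haC : a ∈ centralizer ({t} : Set (GG K)) := mem_centralizer_singleton_iff.2 hta.symm
  have hbC : b ∈ centralizer ({t} : Set (GG K)) := mem_centralizer_singleton_iff.2 htb.symm
  have h1 := Subgroup.orderOf_dvd_natCard _ haC
  have h2 := Subgroup.orderOf_dvd_natCard _ hbC
  rcases Card.inv_cases_eight (SS c) (card8 c) rfl ht with ⟨hc, -⟩ | ⟨hc, -⟩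
  · rw [ha, hc] at h1
    norm_num at h1
  · rw [hb, hc] at h2
    norm_num at h2

end Cfsg.Agent.H857.Ree8.Facts3
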