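import Cfsg.Agent.H857.Ree8.Facts3

/-!
# `²F₄(8)`: the centralizer of `s`, the involutions inverting `s`
-/

set_option autoImplicit false
set_option linter.unusedSectionVars false
set_option maxRecDepth 20000

namespace Cfsg.Agent.H857.Ree8.Facts4

open Cfsg.Lie Cfsg.Agent.ChevalleyStructure.TwF4.TwistedFix
open Cfsg.Agent.H857.Ree8 Cfsg.Agent.H857.Ree8.Root Cfsg.Agent.H857.Ree8.Code Cfsg.Agent.H857.Ree8.Word
open Cfsg.Agent.H857.Ree8.Data Cfsg.Agent.H857.Ree8.Enum Cfsg.Agent.H857.Ree8.Facts Cfsg.Agent.H857.Ree8.Facts2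
open Cfsg.Agent.H857.Ree8.Facts3
open Cfsg.Agent.KFacts.TwF4 Subgroup
open Cfsg.Agent.H519

universe u

theorem ok_E : ((List.range 8).all fun u => (List.range 8).all fun t => (List.range 9).all fun a =>
    ok (gEW u t 0 ++ lW a ++ sW) && ok (sW ++ gEW u t 0 ++ lW a)) = true := by decide +kernel

theorem ok_N : ((List.range 8).all fun u => (List.range 8).all fun r => (List.range 3).all fun k =>
    ok (cW u r k) && (ok (cW u r k ++ cW u r k) && (ok (cW u r k ++ (xW ++ cW u r k ++ inv xW)) &&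
      (ok ((xW ++ cW u r k ++ inv xW) ++ cW u r k) && (ok (pw (xW ++ (wW 0 ++ cW u r k)) 3) &&
        (ok (wW 0 ++ cW u r k) && (ok (wW 0) && (ok (wW 1) && ok (wW 2))))))))) = true := by decide +kernel

theorem xinv : chk (xW ++ inv xW) [] = true := by decide +kernel

theorem chk_of {v w : List Tok} (hv : ok v = true) (hw : ok w = true) (h : Nat.beq (ev v idM) (ev w idM) = true) :
    chk v w = true := by
  unfold chk
  rw [hv, hw, h]
  rfl

variable {K : Type u} [Field K] [Fintype K] [CharP K 2] {φ : K →+* K} {θ : K} (c : Ctx K φ θ)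

/-- equality of matrices from the group elements -/
theorem sem_of_eq {v w : List Tok} (hv : ok v = true) (hw : ok w = true) (h : g c v = g c w) :
    beqM (ev v idM) (ev w idM) = true := by
  by_contra hne
  rw [Bool.not_eq_true] at hne
  exact nev c (by rw [hv, hw, hne]; rfl) h

theorem g_xinv : g c (inv xW) = (g c xW)⁻¹ := by
  have h := eqv c xinv
  rw [g_app, g_nil] at h
  exact eq_inv_of_mul_eq_one_right h

include c in
theorem hsig (x : K) : φ (x ^ 2) = x := TwFE.sig_sq_of_card (SS c) (card8 c) x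

include c in
theorem pow8 (x : K) : x ^ 8 = x := by
  have h := FiniteField.pow_card x
  rw [c.hK] at h
  exact h

include c in
theorem phi_code {n : ℕ} (hn : n < 8) : φ (gf θ n) = gf θ (sg n) := by
  rw [gf_sg c.hθ hn]
  have h := hsig c ((gf θ n ^ 2) ^ 2)
  have e : ((gf θ n ^ 2) ^ 2) ^ 2 = gf θ n := by
    rw [← pow_mul, ← pow_mul]
    exact pow8 c _
  rw [e] at h
  exact h

theorem sq_lt {n : ℕ} (hn : n < 8) : xS.sq n < 8 := by revert n; decide
theorem sg_lt {n : ℕ} (hn : n < 8) : sg n < 8 := by revert n; decide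

include c in
theorem gf_gi {n : ℕ} (hn : n < 8) : gf θ (gi n) = (gf θ n)⁻¹ := by
  by_cases h0 : n = 0
  · subst h0
    show gf θ 0 = _
    rw [gf_zero, inv_zero]
  · have e : gm (gi n) n = 1 := by interval_cases n <;> first | exact absurd rfl h0 | rfl
    have h2 := gf_gm c.hθ (n := gi n) hn
    rw [e, gf_one] at h2
    exact eq_inv_of_mul_eq_one_left h2.symm

theorem qa_lt {n : ℕ} (hn : n < 8) : qa n < 8 := by revert n; decide

theorem gf_xor' (n m : ℕ) : gf θ (Nat.xor n m) = gf θ n + gf θ m := gf_xor n m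

include c in
theorem gf_qa {n : ℕ} (hn : n < 8) : gf θ (qa n) = gf θ n ^ 2 + gf θ n + 1 := by
  unfold qa
  rw [gf_xor', gf_xor', gf_sq c.hθ hn, gf_one, add_assoc]

theorem gE_code {u t s : ℕ} (hu : u < 8) (ht : t < 8) :
    TwFE.gE (SS c) (gf θ u) (gf θ t) (gf θ s) = g c (gEW u t s) := by
  have hc := c.hθ
  have e1 : gf θ (Nat.xor (gm u t) (gm u (sg u))) = gf θ u * gf θ t + gf θ u * φ (gf θ u) := by
    rw [gf_xor', gf_gm hc ht, gf_gm hc (sg_lt hu), phi_code c hu]
  have e2 : gf θ (Nat.xor (xS.sq t) u) = gf θ t ^ 2 + gf θ u := by rw [gf_xor', gf_sq hc ht]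
  have e3 : gf θ (Nat.xor (gm t (xS.sq t)) (Nat.xor (gm (sg u) (xS.sq t)) (gm u (sg u)))) =
      gf θ t ^ 3 + φ (gf θ u) * gf θ t ^ 2 + gf θ u * φ (gf θ u) := by
    rw [gf_xor', gf_xor', gf_gm hc (sq_lt ht), gf_gm hc (sq_lt ht), gf_gm hc (sg_lt hu), gf_sq hc ht, phi_code c hu]
    ring
  have e4 : gf θ (Nat.xor t (sg u)) = gf θ t + φ (gf θ u) := by rw [gf_xor', phi_code c hu]
  unfold gEW
  rw [tok_e, tok_o, tok_e, tok_o, tok_e, tok_o, tok_e, g_nil, mul_one, e1, e2, e3, e4, gf_sq hc ht, gf_zero]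
  unfold TwFE.gE
  simp only [mul_assoc]
  rfl

theorem l_code {a : ℕ} (ha : a < 8) : (SS c).o 0 (gf θ a) * (SS c).o 4 (gf θ a ^ 2 + gf θ a + 1)⁻¹ * (SS c).o 0 (gf θ a + 1) =
    g c (lW a) := by
  have e0 : lW a = [Tok.o 0 a, Tok.o 4 (gi (qa a)), Tok.o 0 (Nat.xor a 1)] := by
    unfold lW
    have : Nat.beq a 8 = false := by
      rw [Bool.eq_false_iff]
      intro e
      exact absurd (Nat.eq_of_beq_eq_true e) (by omega)
    rw [this]
    rfl
  rw [e0, tok_o, tok_o, tok_o, g_nil, mul_one, gf_gi c (qa_lt ha), gf_qa c ha, gf_xor', gf_one]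
  simp only [mul_assoc]
  rfl

theorem mem_HO_of {n : GG K} (h : n * g c sW = g c sW * n) : n ∈ (SS c).HO ∧ n * TwFE.dd (SS c) = TwFE.dd (SS c) * n := by
  have hc : Commute n (g c sW) := h
  constructor
  · rw [← cent_v]
    refine mem_centralizer_singleton_iff.2 ?_
    rw [v_s6]
    exact (hc.pow_right 6).eq
  · rw [← s4]
    exact (hc.pow_right 4).eq

/-- codes for the elements of `HO` commuting with `d` -/
theorem HO_code {n : GG K} (h : n * g c sW = g c sW * n) : ∃ u < 8, ∃ t < 8, ∃ s < 8, ∃ a < 9,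
    n = g c (gEW u t s ++ lW a) := by
  obtain ⟨h1, h2⟩ := mem_HO_of c h
  obtain ⟨u, t, s, h3⟩ := TwFE.of_HO (SS c) (hsig c) (hF c) h1 h2
  obtain ⟨u', hu, rfl⟩ := gf_surj (by rw [c.hK]; norm_num) c.hθ u
  obtain ⟨t', ht, rfl⟩ := gf_surj (by rw [c.hK]; norm_num) c.hθ t
  obtain ⟨s', hs, rfl⟩ := gf_surj (by rw [c.hK]; norm_num) c.hθ s
  rcases h3 with h3 | ⟨a, -, h3⟩
  · refine ⟨u', hu, t', ht, s', hs, 8, by norm_num, ?_⟩
    rw [h3, gE_code c hu ht]
    exact congrArg (g c) (List.append_nil _).symm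
  · obtain ⟨a', ha, rfl⟩ := gf_surj (by rw [c.hK]; norm_num) c.hθ a
    refine ⟨u', hu, t', ht, s', hs, a', by omega, ?_⟩
    rw [h3, gE_code c hu ht, l_code c ha, g_app]

/-- **the centralizer of `s`** -/
theorem cs {n : GG K} (h : n * g c sW = g c sW * n) : ∃ u < 8, ∃ r < 8, ∃ k < 3, n = g c (cW u r k) := by
  obtain ⟨u, hu, t, ht, s, hs, a, ha, rfl⟩ := HO_code c h
  have h1 := List.all_eq_true.1 (List.all_eq_true.1 (List.all_eq_true.1 split_all u (List.mem_range.2 hu)) t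
    (List.mem_range.2 ht)) s (List.mem_range.2 hs)
  have h2 := eqv c h1
  have h3 := eqv c (List.all_eq_true.1 o2_s s (List.mem_range.2 hs))
  rw [g_app, g_app] at h3
  rw [g_app] at h2
  have h4 : g c (gEW u t 0 ++ lW a ++ sW) = g c (sW ++ gEW u t 0 ++ lW a) := by
    rw [g_app, g_app, g_app, g_app]
    rw [g_app, h2] at h
    have h5 : g c [Tok.o 2 s] * (g c (gEW u t 0) * g c (lW a) * g c sW) =
        g c [Tok.o 2 s] * (g c sW * g c (gEW u t 0) * g c (lW a)) := by
      calc g c [Tok.o 2 s] * (g c (gEW u t 0) * g c (lW a) * g c sW) =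
          g c [Tok.o 2 s] * g c (gEW u t 0) * g c (lW a) * g c sW := by simp only [mul_assoc]
        _ = g c sW * (g c [Tok.o 2 s] * g c (gEW u t 0) * g c (lW a)) := h
        _ = (g c sW * g c [Tok.o 2 s]) * g c (gEW u t 0) * g c (lW a) := by simp only [mul_assoc]
        _ = _ := by rw [← h3]; simp only [mul_assoc]
    exact mul_left_cancel h5
  have h5 := List.all_eq_true.1 (List.all_eq_true.1 (List.all_eq_true.1 ok_E u (List.mem_range.2 hu)) t
    (List.mem_range.2 ht)) a (List.mem_range.2 ha)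
  rw [Bool.and_eq_true] at h5
  have h6 := sem_of_eq c h5.1 h5.2 h4
  have h7 : tS u t a = true := List.all_eq_true.1 (List.all_eq_true.1 (List.all_eq_true.1 tS_all u (List.mem_range.2 hu)) t
    (List.mem_range.2 ht)) a (List.mem_range.2 ha)
  unfold tS at h7
  rw [h6, Bool.not_true, Bool.false_or, Bool.and_eq_true, Bool.or_eq_true, Bool.or_eq_true] at h7
  obtain ⟨h8, h9⟩ := h7
  have e8 := Nat.eq_of_beq_eq_true h8
  subst e8
  rcases h9 with h9 | h9 | h9
  · have e9 := Nat.eq_of_beq_eq_true h9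
    subst e9
    exact ⟨u, hu, s, hs, 0, by norm_num, rfl⟩
  · have e9 := Nat.eq_of_beq_eq_true h9
    subst e9
    exact ⟨u, hu, s, hs, 1, by norm_num, rfl⟩
  · have e9 := Nat.eq_of_beq_eq_true h9
    subst e9
    exact ⟨u, hu, s, hs, 2, by norm_num, rfl⟩

theorem okN {u r k : ℕ} (hu : u < 8) (hr : r < 8) (hk : k < 3) :
    ok (cW u r k) = true ∧ ok (cW u r k ++ cW u r k) = true ∧ ok (cW u r k ++ (xW ++ cW u r k ++ inv xW)) = true ∧
      ok ((xW ++ cW u r k ++ inv xW) ++ cW u r k) = true ∧ ok (pw (xW ++ (wW 0 ++ cW u r k)) 3) = true ∧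
        ok (wW 0 ++ cW u r k) = true ∧ ok (wW 0) = true ∧ ok (wW 1) = true ∧ ok (wW 2) = true := by
  have h := List.all_eq_true.1 (List.all_eq_true.1 (List.all_eq_true.1 ok_N u (List.mem_range.2 hu)) r
    (List.mem_range.2 hr)) k (List.mem_range.2 hk)
  simpa only [Bool.and_eq_true] using h

/-- **no normal 2-subgroup** -/
theorem h2 (N : Subgroup (GG K)) (hN : ∀ a ∈ N, a * a = 1) (hx : ∀ a ∈ N, g c xW * a * (g c xW)⁻¹ ∈ N)
    (hs : ∀ a ∈ N, g c sW * a * (g c sW)⁻¹ ∈ N) : N = ⊥ := by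
  by_contra hb
  obtain ⟨n, hn, hn1, hns⟩ := Cfsg.Agent.H47.TFour.exists_fix (x13 c) (s12 c) (sx c) hN hx hs (fun a ha hax => by
    -- the centralizer of `x` has odd order
    by_contra ha1
    have : Fact (Nat.Prime 2) := ⟨Nat.prime_two⟩
    have h1 : orderOf a = 2 := orderOf_eq_prime (by rw [pow_two, hN a ha]) ha1
    have h3 : a ∈ centralizer ({g c xW} : Set (GG K)) := mem_centralizer_singleton_iff.2 hax
    have h4 := Subgroup.orderOf_dvd_natCard _ h3
    rw [h1] at h4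
    exact (Nat.not_even_iff_odd.2 (odd_Cx c)) (even_iff_two_dvd.2 h4)) hb
  obtain ⟨u, hu, r, hr, k, hk, rfl⟩ := cs c hns
  obtain ⟨o1, o2, o3, o4, -⟩ := okN hu hr hk
  have h7 : tN u r k = true := List.all_eq_true.1 (List.all_eq_true.1 (List.all_eq_true.1 tN_all u (List.mem_range.2 hu)) r
    (List.mem_range.2 hr)) k (List.mem_range.2 hk)
  unfold tN at h7
  rw [Bool.or_eq_true, Bool.or_eq_true] at h7
  rcases h7 with h7 | h7 | h7
  · apply hn1
    rw [eqv c (chk_of o1 ok_nil h7), g_nil]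
  · have h8 := sem_of_eq c o2 ok_nil (by rw [g_app, g_nil]; exact hN _ hn)
    rw [show ev [] idM = idM from rfl] at h8
    rw [h8] at h7
    exact Bool.false_ne_true h7
  · have hm := hx _ hn
    have hcomm : g c (cW u r k) * (g c xW * g c (cW u r k) * (g c xW)⁻¹) =
        (g c xW * g c (cW u r k) * (g c xW)⁻¹) * g c (cW u r k) := by
      have e1 := hN _ hn
      have e2 := hN _ hm
      have e3 := hN _ (mul_mem hn hm)
      have i1 : (g c (cW u r k))⁻¹ = g c (cW u r k) := inv_eq_of_mul_eq_one_left e1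
      have i2 : (g c xW * g c (cW u r k) * (g c xW)⁻¹)⁻¹ = g c xW * g c (cW u r k) * (g c xW)⁻¹ :=
        inv_eq_of_mul_eq_one_left e2
      have i3 := inv_eq_of_mul_eq_one_left e3
      rw [mul_inv_rev, i1, i2] at i3
      exact i3.symm
    have h8 := sem_of_eq c o3 o4 (by simp only [g_app, g_xinv]; exact hcomm)
    rw [h8] at h7
    exact Bool.false_ne_true h7

/-- **the involutions inverting `s`** -/
theorem inv_s {w : GG K} (h : w * g c sW * w⁻¹ = (g c sW)⁻¹) (h3 : (g c xW * w) ^ 3 = 1) : ∃ i < 3, w = g c (wW i) := by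
  have hw0 := wis c (i := 0) (by norm_num)
  have hcm : ((g c (wW 0))⁻¹ * w) * g c sW = g c sW * ((g c (wW 0))⁻¹ * w) := by
    have e1 : w * g c sW * w⁻¹ = g c (wW 0) * g c sW * (g c (wW 0))⁻¹ := by rw [h, hw0]
    have e2 : ((g c (wW 0))⁻¹ * w) * g c sW = (g c (wW 0))⁻¹ * (w * g c sW * w⁻¹) * w := by group
    rw [e2, e1]
    group
  obtain ⟨u, hu, r, hr, k, hk, hc⟩ := cs c hcm
  have hw : w = g c (wW 0 ++ cW u r k) := by rw [g_app, ← hc]; group
  obtain ⟨-, -, -, -, o5, o6, o7, o8, o9⟩ := okN hu hr hk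
  have h7 : tW u r k = true := List.all_eq_true.1 (List.all_eq_true.1 (List.all_eq_true.1 tW_all u (List.mem_range.2 hu)) r
    (List.mem_range.2 hr)) k (List.mem_range.2 hk)
  unfold tW at h7
  have h8 := sem_of_eq c o5 ok_nil (by rw [g_pw, g_app, ← hw, g_nil]; exact h3)
  rw [show ev [] idM = idM from rfl] at h8
  rw [h8, Bool.not_true, Bool.false_or, Bool.or_eq_true, Bool.or_eq_true] at h7
  rw [hw]
  rcases h7 with h7 | h7 | h7
  · exact ⟨0, by norm_num, eqv c (chk_of o6 o7 h7)⟩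
  · exact ⟨1, by norm_num, eqv c (chk_of o6 o8 h7)⟩
  · exact ⟨2, by norm_num, eqv c (chk_of o6 o9 h7)⟩

end Cfsg.Agent.H857.Ree8.Facts4
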