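import Cfsg.Agent.H857.Ree8.Facts4
import Cfsg.Agent.H306.PGL.ReeB
import Cfsg.Agent.H762.ReeEightD

/-!
# The maximal subgroups `PGL₂(13)` of `²F₄(8)`
-/

set_option autoImplicit false
set_option linter.unusedSectionVars false
set_option maxRecDepth 20000

namespace Cfsg.Agent.H857.Ree8.Final

open Cfsg.Lie Cfsg.Agent.ChevalleyStructure.TwF4.TwistedFix
open Cfsg.Agent.H857.Ree8 Cfsg.Agent.H857.Ree8.Root Cfsg.Agent.H857.Ree8.Code Cfsg.Agent.H857.Ree8.Word
open Cfsg.Agent.H857.Ree8.Data Cfsg.Agent.H857.Ree8.Enum Cfsg.Agent.H857.Ree8.Facts Cfsg.Agent.H857.Ree8.Facts2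
open Cfsg.Agent.H857.Ree8.Facts3 Cfsg.Agent.H857.Ree8.Facts4
open Cfsg.Agent.KFacts.TwF4 Subgroup
open Cfsg.Agent.H519

universe u

theorem tK_all : ((List.range 3).all fun j => (List.range 3).all fun k => (List.range 12).all fun m =>
    ok (wW k) && (ok (wW j ++ pw sW m) && (Nat.beq j k || !(beqM (ev (wW k) idM) (ev (wW j ++ pw sW m) idM))))) = true := by
  decide +kernel

theorem ok_tw : ((List.range 3).all fun i => ok (wW i ++ pw sW 3 ++ xW)) = true := by decide +kernel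

section gen

variable {G H : Type*} [Group G] [Group H]

theorem rel_map (f : G →* H) (hf : Function.Injective f) {x s w : G} (h : Rel x s w) : Rel (f x) (f s) (f w) where
  x13 := by rw [← map_pow, h.x13, map_one]
  x1 := fun h' => h.x1 (hf (by rw [h', map_one]))
  s12 := by rw [← map_pow, h.s12, map_one]
  sx := by rw [← map_inv, ← map_mul, ← map_mul, h.sx, map_pow]
  w2 := by rw [← map_mul, h.w2, map_one]
  ws := by rw [← map_inv, ← map_mul, ← map_mul, h.ws, map_inv]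
  xw := by rw [← map_mul, ← map_pow, h.xw, map_one]

theorem rel_conj (k : G) {x s w : G} (h : Rel x s w) : Rel (k * x * k⁻¹) (k * s * k⁻¹) (k * w * k⁻¹) :=
  rel_map (MulAut.conj k).toMonoidHom (MulAut.conj k).injective h

theorem map_closure3 (f : G →* H) (x s w : G) : (closure ({x, s, w} : Set G)).map f = closure {f x, f s, f w} := by
  rw [MonoidHom.map_closure]
  congr 1
  rw [Set.image_insert_eq, Set.image_insert_eq, Set.image_singleton]

/-- the relations in the subgroup generated -/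
theorem rel_sub {x s w : G} (h : Rel x s w) {M : Subgroup G} (hx : x ∈ M) (hs : s ∈ M) (hw : w ∈ M) :
    Rel (⟨x, hx⟩ : M) ⟨s, hs⟩ ⟨w, hw⟩ where
  x13 := Subtype.ext h.x13
  x1 := fun h' => h.x1 (congrArg Subtype.val h')
  s12 := Subtype.ext h.s12
  sx := Subtype.ext h.sx
  w2 := Subtype.ext h.w2
  ws := Subtype.ext h.ws
  xw := Subtype.ext h.xw

theorem closure_sub {x s w : G} {M : Subgroup G} (hM : M = closure {x, s, w}) (hx : x ∈ M) (hs : s ∈ M) (hw : w ∈ M) :
    closure ({⟨x, hx⟩, ⟨s, hs⟩, ⟨w, hw⟩} : Set M) = ⊤ := by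
  apply Subgroup.map_injective M.subtype_injective
  rw [map_closure3, ← MonoidHom.range_eq_map, Subgroup.range_subtype]
  exact hM.symm

/-- pairs in the subgroup -/
theorem pair_sub {x s w x' s' : G} (h : Rel x s w) {M : Subgroup G} (hM : M = closure {x, s, w}) (hx' : x' ∈ M) (hs' : s' ∈ M)
    (h1 : x' ≠ 1) (h13 : x' ^ 13 = 1) (h2 : s' * x' * s'⁻¹ = x' ^ 2) : ∃ m ∈ M, m * x * m⁻¹ = x' ∧ m * s * m⁻¹ = s' := by
  have hx : x ∈ M := by rw [hM]; exact subset_closure (by simp)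
  have hs : s ∈ M := by rw [hM]; exact subset_closure (by simp)
  have hw : w ∈ M := by rw [hM]; exact subset_closure (by simp)
  obtain ⟨m, hm1, hm2⟩ := Cfsg.Agent.H306.PGL.pair_conj (rel_sub h hx hs hw) (closure_sub hM hx hs hw)
    (x' := (⟨x', hx'⟩ : M)) (s' := ⟨s', hs'⟩) (fun h' => h1 (congrArg Subtype.val h')) (Subtype.ext h13) (Subtype.ext h2)
  exact ⟨m, m.2, congrArg Subtype.val hm1, congrArg Subtype.val hm2⟩

end gen

variable {K : Type u} [Field K] [Fintype K] [CharP K 2] {φ : K →+* K} {θ : K} (c : Ctx K φ θ)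

/-- the maximal subgroups -/
noncomputable def MM (i : ℕ) : Subgroup (GG K) := closure {g c xW, g c sW, g c (wW i)}

theorem coatom {i : ℕ} (hi : i < 3) (hKn : ∀ (X : Type u) [Group X] [Finite X] [IsSimpleGroup X], IsKnownSimple' X)
    (hSch : Cfsg.Agent.Schreier.Cases.SchFor.{u} @IsKnownSimple') (TT : Cfsg.Agent.OrdDiv.OrderTable.{u}) :
    IsCoatom (MM c i) :=
  Cfsg.Agent.H762.ReeEight.isCoatom_of hKn hSch TT c.hcard (rel c hi) (Cfsg.Agent.H306.PGL.card_closure (rel c hi))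
    (centx c).1 (hN c) (hrat c) (hv c) (h2 c) (h35 c)

theorem trw {i : ℕ} (hi : i < 3) {n : ℕ} (h : trc (ev (wW i ++ pw sW 3 ++ xW) idM) = n) :
    tr (g c (wW i) * g c sW ^ 3 * g c xW) = gf θ n := by
  rw [← g_pw, ← g_app, ← g_app]
  exact tr_g c (List.all_eq_true.1 ok_tw i (List.mem_range.2 hi)) h

theorem trw_inj {i j : ℕ} (hi : i < 3) (hj : j < 3)
    (h : tr (g c (wW i) * g c sW ^ 3 * g c xW) = tr (g c (wW j) * g c sW ^ 3 * g c xW)) : i = j := by
  have h0 := trw c (i := 0) (by norm_num) tr_w.1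
  have h1 := trw c (i := 1) (by norm_num) tr_w.2.1
  have h2 := trw c (i := 2) (by norm_num) tr_w.2.2
  have hne : ∀ a b : ℕ, a < 8 → b < 8 → a ≠ b → gf θ a ≠ gf θ b := fun a b ha hb hab h => hab (gf_inj c.hθ ha hb h)
  interval_cases i <;> interval_cases j
  · rfl
  · rw [h0, h1] at h; exact absurd h (hne _ _ (by norm_num) (by norm_num) (by norm_num))
  · rw [h0, h2] at h; exact absurd h (hne _ _ (by norm_num) (by norm_num) (by norm_num))
  · rw [h1, h0] at h; exact absurd h (hne _ _ (by norm_num) (by norm_num) (by norm_num))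
  · rfl
  · rw [h1, h2] at h; exact absurd h (hne _ _ (by norm_num) (by norm_num) (by norm_num))
  · rw [h2, h0] at h; exact absurd h (hne _ _ (by norm_num) (by norm_num) (by norm_num))
  · rw [h2, h1] at h; exact absurd h (hne _ _ (by norm_num) (by norm_num) (by norm_num))
  · rfl

/-- the subgroups are not conjugate -/
theorem not_conj {i j : ℕ} (hi : i < 3) (hj : j < 3) {k : GG K} (h : (MM c i).map (MulAut.conj k).toMonoidHom = MM c j) :
    i = j := by
  have hR := rel_conj k (rel c hi)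
  have hmem : ∀ y ∈ MM c i, k * y * k⁻¹ ∈ MM c j := fun y hy => by rw [← h]; exact ⟨y, hy, rfl⟩
  have hx := hmem (g c xW) (subset_closure (by simp))
  have hs := hmem (g c sW) (subset_closure (by simp))
  have hw := hmem (g c (wW i)) (subset_closure (by simp))
  obtain ⟨m, hm, hm1, hm2⟩ := pair_sub (rel c hj) (M := MM c j) rfl hx hs hR.x1 hR.x13 hR.sx
  -- `z = m⁻¹ k` centralises `x` and `s`
  have zx : (m⁻¹ * k) * g c xW * (m⁻¹ * k)⁻¹ = g c xW := by
    calc (m⁻¹ * k) * g c xW * (m⁻¹ * k)⁻¹ = m⁻¹ * (k * g c xW * k⁻¹) * m := by group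
      _ = g c xW := by rw [← hm1]; group
  have zs : (m⁻¹ * k) * g c sW * (m⁻¹ * k)⁻¹ = g c sW := by
    calc (m⁻¹ * k) * g c sW * (m⁻¹ * k)⁻¹ = m⁻¹ * (k * g c sW * k⁻¹) * m := by group
      _ = g c sW := by rw [← hm2]; group
  have hR2 := rel_conj (m⁻¹ * k) (rel c hi)
  rw [zx, zs] at hR2
  obtain ⟨n, hn, hn'⟩ := inv_s c hR2.ws hR2.xw
  have hmem2 : (m⁻¹ * k) * g c (wW i) * (m⁻¹ * k)⁻¹ ∈ MM c j := by
    have e : (m⁻¹ * k) * g c (wW i) * (m⁻¹ * k)⁻¹ = m⁻¹ * (k * g c (wW i) * k⁻¹) * m := by group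
    rw [e]
    exact mul_mem (mul_mem (inv_mem hm) hw) hm
  obtain ⟨l, hl⟩ := Cfsg.Agent.H306.PGL.eq_mul_pow (rel c hj) hmem2 hR2.ws
  -- `w_n = w_j s ^ l`
  have hnj : n = j := by
    have e : g c (wW n) = g c (wW j ++ pw sW (l % 12)) := by
      rw [g_app, g_pw, ← hn', hl, pow_eq_pow_mod l (s12 c)]
    have h1 := List.all_eq_true.1 (List.all_eq_true.1 (List.all_eq_true.1 tK_all j (List.mem_range.2 hj)) n
      (List.mem_range.2 hn)) (l % 12) (List.mem_range.2 (Nat.mod_lt _ (by norm_num)))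
    rw [Bool.and_eq_true, Bool.and_eq_true, Bool.or_eq_true] at h1
    rcases h1.2.2 with h2 | h2
    · exact (Nat.eq_of_beq_eq_true h2).symm
    · have h3 := sem_of_eq c h1.1 h1.2.1 e
      rw [h3] at h2
      exact absurd h2 Bool.false_ne_true
  subst hnj
  apply trw_inj c hi hj
  rw [← hn']
  refine tr_conj (isConj_iff.2 ⟨m⁻¹ * k, ?_⟩)
  have zs3 : (m⁻¹ * k) * g c sW ^ 3 * (m⁻¹ * k)⁻¹ = g c sW ^ 3 := by rw [← conj_pow, zs]
  calc (m⁻¹ * k) * (g c (wW i) * g c sW ^ 3 * g c xW) * (m⁻¹ * k)⁻¹ =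
      ((m⁻¹ * k) * g c (wW i) * (m⁻¹ * k)⁻¹) * ((m⁻¹ * k) * g c sW ^ 3 * (m⁻¹ * k)⁻¹) * ((m⁻¹ * k) * g c xW * (m⁻¹ * k)⁻¹) := by
        group
    _ = _ := by rw [zs3, zx]

/-- **every subgroup with the relations is conjugate to one of the three** -/
theorem exists_conj {X S W : GG K} (hR : Rel X S W) :
    ∃ i < 3, ∃ k : GG K, (closure {X, S, W}).map (MulAut.conj k).toMonoidHom = MM c i := by
  have : Fact (Nat.Prime 13) := ⟨by norm_num⟩
  have hX : orderOf X = 13 := orderOf_eq_prime hR.x13 hR.x1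
  have hX4 : IsConj X (X ^ 4) := isConj_iff.2 ⟨S ^ 2, sx_pow hR.sx 2⟩
  obtain ⟨k, hk⟩ := isConj_iff.1 (hrat c X hX hX4).symm
  have hR1 := rel_conj k hR
  rw [hk] at hR1
  set S1 := k * S * k⁻¹ with hS1
  set W1 := k * W * k⁻¹ with hW1
  set v := g c [Tok.o 2 1] with hvdef
  have v2' : v * v = 1 := v2 c
  have vi : v⁻¹ = v := inv_eq_of_mul_eq_one_left v2'
  set v1 := S1 ^ 6 with hv1
  have v12 : v1 * v1 = 1 := by rw [hv1, ← pow_add]; exact hR1.s12
  have v1i : v1⁻¹ = v1 := inv_eq_of_mul_eq_one_left v12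
  have v1x : v1 * g c xW * v1⁻¹ = (g c xW)⁻¹ := by
    rw [hv1, sx_pow hR1.sx 6]
    refine eq_inv_of_mul_eq_one_left ?_
    rw [← pow_succ]
    have e : 2 ^ 6 + 1 = 13 * 5 := by norm_num
    rw [e, pow_mul, x13, one_pow]
  -- `z = v v1` centralises `x`
  have hz : (v * v1) * g c xW = g c xW * (v * v1) := by
    have e1 : v1 * g c xW = (g c xW)⁻¹ * v1 := by rw [← v1x]; group
    have e2 : v * (g c xW)⁻¹ = g c xW * v := by
      have e3 : v * g c xW * v⁻¹ = (g c xW)⁻¹ := vx c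
      rw [← e3, vi]
      calc v * (v * g c xW * v) = (v * v) * g c xW * v := by group
        _ = g c xW * v := by rw [v2', one_mul]
    rw [mul_assoc, e1, ← mul_assoc, e2, mul_assoc]
  have hinv := (centx c).2.1
  -- the order of `C(x)` is `169`
  have hz169 : (v * v1) ^ 169 = 1 := by
    have h1 : v * v1 ∈ centralizer ({g c xW} : Set (GG K)) := mem_centralizer_singleton_iff.2 hz
    have h2 := Subgroup.orderOf_dvd_natCard _ h1
    rw [(centx c).1] at h2
    exact orderOf_dvd_iff_pow_eq_one.1 h2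
  set y := (v * v1) ^ 85 with hy
  have hyx : y * g c xW = g c xW * y := (Commute.pow_left (show Commute (v * v1) (g c xW) from hz) 85).eq
  have hyy : y * y = v * v1 := by
    rw [hy, ← pow_add]
    have e : 85 + 85 = 169 + 1 := by norm_num
    rw [e, pow_add, hz169, one_mul, pow_one (v * v1)]
  have hyv : v * y * v⁻¹ = y⁻¹ := hinv y hyx
  -- `y v1 y⁻¹ = v`
  have hyv1 : y * v1 * y⁻¹ = v := by
    have e1 : v1 = v * (y * y) := by rw [hyy, ← mul_assoc, v2', one_mul]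
    have e2 : y * v = v * y⁻¹ := by
      rw [← hyv, vi]
      calc y * v = (v * v) * y * v := by rw [v2', one_mul]
        _ = v * (v * y * v) := by group
    calc y * v1 * y⁻¹ = (y * v) * y * y * y⁻¹ := by rw [e1]; group
      _ = v := by rw [e2]; group
  have hR2 := rel_conj y hR1
  have yx : y * g c xW * y⁻¹ = g c xW := by rw [hyx]; group
  rw [yx] at hR2
  set S2 := y * S1 * y⁻¹ with hS2
  set W2 := y * W1 * y⁻¹ with hW2
  have hS26 : S2 ^ 6 = v := by rw [hS2, conj_pow]; exact hyv1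
  have hs6 : g c sW ^ 6 = v := (v_s6 c).symm
  have hss : (g c sW)⁻¹ * S2 = 1 := by
    refine hfix c _ ?_ ?_
    · have e1 : S2 * g c xW * S2⁻¹ = g c sW * g c xW * (g c sW)⁻¹ := by rw [hR2.sx, sx]
      have e2 : (g c sW)⁻¹ * S2 * g c xW = (g c sW)⁻¹ * (S2 * g c xW * S2⁻¹) * S2 := by group
      rw [e2, e1]
      group
    · have c1 : Commute S2 v := by rw [← hS26]; exact Commute.self_pow S2 6
      have c2 : Commute (g c sW) v := by rw [← hs6]; exact Commute.self_pow _ 6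
      exact (c2.inv_left.mul_left c1).eq
  have hSs : S2 = g c sW := (inv_mul_eq_one.1 hss).symm
  rw [hSs] at hR2
  obtain ⟨i, hi, hwi⟩ := inv_s c hR2.ws hR2.xw
  refine ⟨i, hi, y * k, ?_⟩
  rw [map_closure3]
  have cj : ∀ a : GG K, (MulAut.conj (y * k)).toMonoidHom a = y * (k * a * k⁻¹) * y⁻¹ := fun a => by
    show y * k * a * (y * k)⁻¹ = _
    group
  rw [cj, cj, cj, hk, yx, ← hS1, ← hS2, ← hW1, ← hW2, hSs, hwi]
  rfl

include c in
/-- **the result** -/
theorem main (hKn : ∀ (X : Type u) [Group X] [Finite X] [IsSimpleGroup X], IsKnownSimple' X)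
    (hSch : Cfsg.Agent.Schreier.Cases.SchFor.{u} @IsKnownSimple') (TT : Cfsg.Agent.OrdDiv.OrderTable.{u}) :
    ∃ M : Fin 3 → Subgroup (GG K), (∀ i, IsCoatom (M i) ∧ Nonempty (↥(M i) ≃* (GL (Fin 2) (ZMod 13) ⧸ Subgroup.center (GL (Fin 2) (ZMod 13))))) ∧
      (∀ i j, (∃ g : GG K, (M i).map (MulAut.conj g).toMonoidHom = M j) → i = j) ∧
      ∀ H : Subgroup (GG K), IsCoatom H → Nonempty (↥H ≃* (GL (Fin 2) (ZMod 13) ⧸ Subgroup.center (GL (Fin 2) (ZMod 13)))) →
        ∃ (i : Fin 3) (g : GG K), H.map (MulAut.conj g).toMonoidHom = M i := by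
  refine ⟨fun i => MM c i, fun i => ⟨coatom c i.2 hKn hSch TT, Cfsg.Agent.H306.PGL.equiv_of_rel (rel c i.2)⟩, ?_, ?_⟩
  · rintro i j ⟨k, hk⟩
    exact Fin.ext (not_conj c i.2 j.2 hk)
  · rintro H - ⟨e⟩
    obtain ⟨x, s, w, hR, ht⟩ := Cfsg.Agent.H306.PGL.exists_rel
    have hinj : Function.Injective (H.subtype.comp e.symm.toMonoidHom) :=
      H.subtype_injective.comp e.symm.injective
    have hR2 := rel_map (H.subtype.comp e.symm.toMonoidHom) hinj hR
    obtain ⟨i, hi, k, hk⟩ := exists_conj c hR2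
    refine ⟨⟨i, hi⟩, k, ?_⟩
    rw [← map_closure3, ht, ← MonoidHom.range_eq_map] at hk
    have hr : (H.subtype.comp e.symm.toMonoidHom).range = H := by
      rw [MonoidHom.range_comp]
      have : e.symm.toMonoidHom.range = ⊤ := MonoidHom.range_eq_top.2 e.symm.surjective
      rw [this, ← MonoidHom.range_eq_map, Subgroup.range_subtype]
    rw [hr] at hk
    exact hk

end Cfsg.Agent.H857.Ree8.Final
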