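import Cfsg.Agent.H857.Ree8.Final
import Cfsg.Agent.S1068
import Cfsg.Agent.S1072

/-!
# The maximal subgroups `PGL₂(13)` of `²F₄(8)`: the statement, over the classification
-/

set_option autoImplicit false

namespace Cfsg.Agent.H857.Ree8.Main

universe u

theorem exists_theta {K : Type u} [Field K] [Fintype K] [CharP K 2] (hK : Fintype.card K = 8) : ∃ θ : K, θ ^ 3 = θ + 1 := by
  have h8 : Nat.card K = 8 := by rw [Nat.card_eq_fintype_card, hK]
  obtain ⟨c, hc⟩ := Cfsg.Agent.H496.TwEight.Card.exists_unit_of_card h8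
  have h7 : Nat.card Kˣ = 7 := by rw [Nat.card_units, h8]
  have hz : c ^ 7 = 1 := by rw [← h7]; exact pow_card_eq_one'
  exact Cfsg.Agent.H496.TwEight.HOFacts.exists_t CharTwo.two_eq_zero (z := (c : K))
    (by rw [← Units.val_pow_eq_pow_val, hz, Units.val_one]) (fun h => hc (Units.ext h))

theorem main {K : Type u} [Field K] [Fintype K] (hK : Fintype.card K = 8)
    (hKn : ∀ (X : Type u) [Group X] [Finite X] [IsSimpleGroup X], IsKnownSimple' X)
    (hSch : Cfsg.Agent.Schreier.Cases.SchFor.{u} @IsKnownSimple') (TT : Cfsg.Agent.OrdDiv.OrderTable.{u}) :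
    ∃ M : Fin 3 → Subgroup ↥(Cfsg.Lie.twistedF4 K 2), (∀ i, IsCoatom (M i) ∧ Nonempty (↥(M i) ≃* (GL (Fin 2) (ZMod 13) ⧸ Subgroup.center (GL (Fin 2) (ZMod 13))))) ∧
      (∀ i j, (∃ g : ↥(Cfsg.Lie.twistedF4 K 2), (M i).map (MulAut.conj g).toMonoidHom = M j) → i = j) ∧
      ∀ H : Subgroup ↥(Cfsg.Lie.twistedF4 K 2), IsCoatom H → Nonempty (↥H ≃* (GL (Fin 2) (ZMod 13) ⧸ Subgroup.center (GL (Fin 2) (ZMod 13)))) →
        ∃ (i : Fin 3) (g : ↥(Cfsg.Lie.twistedF4 K 2)), H.map (MulAut.conj g).toMonoidHom = M i := by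
  have hK' : Fintype.card K = 2 ^ (2 * 1 + 1) := by rw [hK]; norm_num
  have := Cfsg.Agent.ChevalleyStructure.TwF4.Twisted.charP_two hK'
  obtain ⟨φ, hφ⟩ := Cfsg.Agent.ChevalleyStructure.TwF4.TwistedFix.exists_rln hK'
  have hsn := Cfsg.Agent.S1072.result (K := K) (m := 1) le_rfl hK'
  have hcard := Cfsg.Agent.S1068.result (K := K) (m := 1) hK'
  obtain ⟨θ, hθ⟩ := exists_theta hK
  exact Cfsg.Agent.H857.Ree8.Final.main (φ := φ) (θ := θ) ⟨hK', hφ, hθ, hsn.1, hsn.2, by rw [hcard]; norm_num⟩ hKn hSch TT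

end Cfsg.Agent.H857.Ree8.Main
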